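import Cfsg.Agent.Fi23Out54.Witness.Defs

/-! Kernel checks: a scan of the points. -/

set_option autoImplicit false
set_option maxRecDepth 100000
set_option Elab.async false

namespace CfsgLib.Fi23Out54

open CfsgLib.CosetEnum CfsgLib.CosetEnum.Fi23

theorem scan1_0 : allFrom scan1 0 5280 = true := by decide +kernel

theorem scan1_1 : allFrom scan1 5280 5280 = true := by decide +kernel

theorem scan1_2 : allFrom scan1 10560 5280 = true := by decide +kernel

theorem scan1_3 : allFrom scan1 15840 5280 = true := by decide +kernel

theorem scan1_4 : allFrom scan1 21120 5280 = true := by decide +kernel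

theorem scan1_5 : allFrom scan1 26400 5271 = true := by decide +kernel

end CfsgLib.Fi23Out54
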