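import Cfsg.Agent.Fi23Out54.Checks

/-! The predicates of the checks: the witnesses of the orbits and the points determined by others. -/

set_option autoImplicit false
set_option maxRecDepth 100000

namespace CfsgLib.Fi23Out54

open CfsgLib.CosetEnum CfsgLib.CosetEnum.Fi23

/-- some point of the orbit tells `k` from `m` -/
noncomputable def differs (w : List ℕ) : ℕ → ℕ → ℕ → Bool
  | 0, _, _ => false
  | n + 1, k, m => !(adjW (rW 0) k == adjW w m) || differs w n (stepY k) (stepY m)

/-- the witness of a cycle works -/
noncomputable def witOK (c : ℕ) : Bool :=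
  (Data.wit.getD c (0, 0)).2.blt 31671 &&
    cond (Nat.beq (Data.wit.getD c (0, 0)).1 0)
      (inA (Data.wit.getD c (0, 0)).2 &&
        Data.cyc.flatten.all (fun m => differs (rW c) 13 (Data.wit.getD c (0, 0)).2 m))
      (Nat.beq c 16 && Nat.beq (Data.wit.getD c (0, 0)).2 77 && inB (Data.wit.getD c (0, 0)).2)

/-- the witness of the sixteenth cycle tells all candidates apart -/
noncomputable def scanB (m : ℕ) : Bool := !(inB m) || differs (rW 16) 13 77 m

/-- adjacency to the words of a list agrees on two points -/
noncomputable def sameKey (F : List (List ℕ)) (p m : ℕ) : Bool :=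
  F.all fun w => adjW w p == adjW w m

/-- the first stage at one point -/
noncomputable def scan1 (m : ℕ) : Bool :=
  Data.stage1.all (fun p => Nat.beq m p || !(sameKey Data.fixW p m))

/-- the second stage at one point -/
noncomputable def scan2 (m : ℕ) : Bool :=
  Nat.beq m 8000 || !(sameKey (Data.fixW ++ Data.stage1W) 8000 m)

end CfsgLib.Fi23Out54
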