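import Cfsg.Agent.Fi23Out54.Witness.Defs

/-! Kernel checks: the witnesses of the orbits. -/

set_option autoImplicit false
set_option maxRecDepth 100000
set_option Elab.async false

namespace CfsgLib.Fi23Out54

open CfsgLib.CosetEnum CfsgLib.CosetEnum.Fi23

theorem witnesses0 : allFrom witOK 1 4 = true := by decide +kernel

theorem witnesses1 : allFrom witOK 5 4 = true := by decide +kernel

theorem witnesses2 : allFrom witOK 9 4 = true := by decide +kernel

end CfsgLib.Fi23Out54
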